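import Groth.Agent.Lib.ExtHull28.Basic
import Groth.Agent.Lib.ExtEq13.Basic

/-!
# Extensions of ideals of reduced finite subschemes with locally free middle term
-/

set_option autoImplicit false
set_option maxHeartbeats 1600000
set_option linter.style.haveILetI false
set_option backward.isDefEq.respectTransparency false

universe w v u

open CategoryTheory CategoryTheory.Limits AlgebraicGeometry
open CategoryTheory.Abelian (Ext)

noncomputable section

namespace GrothLib.ExtHull28

section General

variable {C : Type u} [Category.{v} C] [Abelian C] [HasExt.{w} C]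

/-- The pullback of a short exact sequence. -/
theorem exists_pullback_seq {A B Q J : C} {i : B ⟶ J} {p : J ⟶ Q} {w₀ : i ≫ p = 0}
    (hS : (ShortComplex.mk i p w₀).ShortExact) (φ : A ⟶ Q) :
    ∃ (V : C) (a : B ⟶ V) (b : V ⟶ A) (w : a ≫ b = 0) (g : V ⟶ J) (hV : (ShortComplex.mk a b w).ShortExact),
      a ≫ g = i ∧ g ≫ p = b ≫ φ ∧
        hV.extClass = (Ext.mk₀ φ).comp hS.extClass (zero_add 1) := by
  haveI : Mono i := hS.mono_f
  haveI : Epi p := hS.epi_g
  let V := pullback p φ
  let g : V ⟶ J := pullback.fst p φ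
  let b : V ⟶ A := pullback.snd p φ
  let a : B ⟶ V := pullback.lift i 0 (by rw [w₀, zero_comp])
  have hag : a ≫ g = i := pullback.lift_fst _ _ _
  have hab : a ≫ b = 0 := pullback.lift_snd _ _ _
  have hgp : g ≫ p = b ≫ φ := pullback.condition
  haveI : Mono a := by
    haveI : Mono (a ≫ g) := by rw [hag]; infer_instance
    exact mono_of_mono a g
  haveI : Epi b := inferInstanceAs (Epi (pullback.snd p φ))
  have hV : (ShortComplex.mk a b hab).ShortExact := by
    refine ShortComplex.ShortExact.mk' (ShortComplex.exact_of_f_is_kernel _ ?_) inferInstance inferInstance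
    refine KernelFork.IsLimit.ofι' a hab fun {T} h hh => ⟨hS.exact.lift (h ≫ g) ?_, ?_⟩
    · show (h ≫ g) ≫ p = 0
      rw [Category.assoc, hgp, ← Category.assoc, show h ≫ b = 0 from hh, zero_comp]
    · apply pullback.hom_ext
      · show (_ ≫ a) ≫ g = h ≫ g
        rw [Category.assoc, hag]
        exact hS.exact.lift_f _ _
      · show (_ ≫ a) ≫ b = h ≫ b
        rw [Category.assoc, hab, comp_zero, show h ≫ b = 0 from hh]
  refine ⟨V, a, b, hab, g, hV, hag, hgp, ?_⟩
  have := ShortComplex.ShortExact.extClass_naturality hV hS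
    ({ τ₁ := 𝟙 B
       τ₂ := g
       τ₃ := φ
       comm₁₂ := by simp [hag]
       comm₂₃ := hgp } : ShortComplex.mk a b hab ⟶ ShortComplex.mk i p w₀)
  rwa [Ext.comp_mk₀_id] at this

/-- Every class is the class of an extension. -/
theorem exists_seq_of_class [EnoughInjectives C] {A B : C} (x : Ext A B 1) :
    ∃ (V : C) (a : B ⟶ V) (b : V ⟶ A) (w : a ≫ b = 0) (hV : (ShortComplex.mk a b w).ShortExact),
      hV.extClass = x := by
  let S := ShortComplex.mk (Injective.ι B) (cokernel.π (Injective.ι B)) (cokernel.condition _)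
  have hS : S.ShortExact := { exact := ShortComplex.exact_cokernel _ }
  haveI : Injective S.X₂ := inferInstanceAs (Injective (Injective.under B))
  obtain ⟨y, hy⟩ := Ext.covariant_sequence_exact₁ A hS x (Ext.eq_zero_of_injective _) rfl
  obtain ⟨φ, rfl⟩ := (Ext.mk₀_bijective _ _).2 y
  obtain ⟨V, a, b, w, g, hV, -, -, hc⟩ := exists_pullback_seq hS φ
  exact ⟨V, a, b, w, hV, hc.trans hy⟩

end General

variable {X : Scheme.{u}}

/-- The vanishing ideal of a part of a finite set is generated by any larger ideal having it as support. -/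
theorem eq_vanishingIdeal_support {I : X.IdealSheafData} {Z : TopologicalSpace.Closeds X}
    (hI : Scheme.IdealSheafData.vanishingIdeal Z ≤ I) {W : TopologicalSpace.Closeds X}
    (hdisj : I.support ⊓ W = ⊥) (hcov : Z ≤ I.support ⊔ W) :
    I = Scheme.IdealSheafData.vanishingIdeal I.support := by
  refine le_antisymm (Scheme.IdealSheafData.le_support_iff_le_vanishingIdeal.1 le_rfl) fun U a ha => ?_
  let J := Scheme.IdealSheafData.vanishingIdeal W
  have htop : I ⊔ J = ⊤ := by
    rw [← Scheme.IdealSheafData.support_eq_bot_iff, Scheme.IdealSheafData.support_sup, ← le_bot_iff, ← hdisj]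
    refine inf_le_inf le_rfl ?_
    refine le_of_eq (SetLike.coe_injective ?_)
    exact Scheme.IdealSheafData.coe_support_vanishingIdeal (Z := W)
  have h1 : (1 : Γ(X, U.1)) ∈ I.ideal U ⊔ J.ideal U := by
    have := congrArg (fun K : X.IdealSheafData => K.ideal U) htop
    simp only [Scheme.IdealSheafData.ideal_sup, Pi.sup_apply, Scheme.IdealSheafData.ideal_top, Pi.top_apply] at this
    rw [this]
    trivial
  obtain ⟨s, hs, t, ht, hst⟩ := Submodule.mem_sup.1 h1
  have hat : a * t ∈ (Scheme.IdealSheafData.vanishingIdeal (I.support ⊔ W)).ideal U := by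
    rw [show Scheme.IdealSheafData.vanishingIdeal (I.support ⊔ W) =
      Scheme.IdealSheafData.vanishingIdeal I.support ⊓ J from Scheme.IdealSheafData.gc.u_inf]
    rw [Scheme.IdealSheafData.ideal_inf]
    exact ⟨Ideal.mul_mem_right _ _ ha, Ideal.mul_mem_left _ _ ht⟩
  rw [← mul_one a, ← hst, mul_add]
  exact add_mem (Ideal.mul_mem_left _ _ hs) (hI U (Scheme.IdealSheafData.vanishingIdeal_antimono hcov U hat))

variable (k : Type u) [Field k] [Infinite k] [X.Over (Spec (CommRingCat.of k))]
  [IsProper (X ↘ Spec (CommRingCat.of k))] [IsIntegral X] [Smooth (X ↘ Spec (CommRingCat.of k))]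

include k in
theorem exists_bundle_iff (hdim : topologicalKrullDim X = 2) (M : X.Modules) (hM : PicF.IsInvertible M)
    (Z : Finset X) (hZc : IsClosed ((Z : Set X))) (hZ : ∀ z ∈ Z, IsClosed ({z} : Set X))
    [HasExt.{u} X.Modules] :
    (∃ (F : X.Modules) (a : M ⟶ F)
        (b : F ⟶ ClSub.idealMod (Scheme.IdealSheafData.vanishingIdeal ⟨(Z : Set X), hZc⟩)) (w : a ≫ b = 0),
        (ShortComplex.mk a b w).ShortExact ∧ FlatMod.IsFinLocFree F) ↔
      ∀ (Z' : Finset X) (hZ'c : IsClosed ((Z' : Set X))), Z' ⊂ Z →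
        ∀ φ : ClSub.idealMod (Scheme.IdealSheafData.vanishingIdeal ⟨(Z : Set X), hZc⟩) ⟶
            ClSub.idealMod (Scheme.IdealSheafData.vanishingIdeal ⟨(Z' : Set X), hZ'c⟩),
          φ ≫ ClSub.idealModι (Scheme.IdealSheafData.vanishingIdeal ⟨(Z' : Set X), hZ'c⟩) =
              ClSub.idealModι (Scheme.IdealSheafData.vanishingIdeal ⟨(Z : Set X), hZc⟩) →
            ¬ Function.Surjective ((Ext.mk₀ φ).precomp M (zero_add 1)) := by
  classical
  set IZ := Scheme.IdealSheafData.vanishingIdeal ⟨(Z : Set X), hZc⟩ with hIZ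
  have hsupp : ∀ (T : TopologicalSpace.Closeds X),
      ((Scheme.IdealSheafData.vanishingIdeal T).support : Set X) = T := fun T => by
    rw [Scheme.IdealSheafData.coe_support_vanishingIdeal]
  have hfin : (IZ.support : Set X).Finite := by rw [hsupp]; exact Z.finite_toSet
  haveI : EnoughInjectives X.Modules := SheafCoh.enoughInjectives_sheafOfModules X.ringCatSheaf
  constructor
  · rintro ⟨F, a, b, w, hex, hF⟩ Z' hZ'c hss φ hφ hsurj
    obtain ⟨x', hx'⟩ := hsurj hex.extClass
    obtain ⟨F', a', b', w', hex', rfl⟩ := exists_seq_of_class x'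
    obtain ⟨V, c, d, w'', g, hV, hcg, hgd, hcl⟩ := exists_pullback_seq hex' φ
    obtain ⟨θ, hθ, hθ₁, hθ₂⟩ := ExtEq13.exists_iso_of_extClass_eq hex hV (hx'.symm.trans hcl.symm)
    refine (not_isFinLocFree_iff k hdim M hM IZ hfin F a b w hex).2
      ⟨_, F', a', b', w', φ, θ ≫ g, ?_, hex', hφ, ?_, ?_⟩ hF
    · refine lt_of_le_of_ne (le_of_fac φ hφ) fun heq => hss.ne ?_
      have h1 := congrArg (fun K : X.IdealSheafData => (K.support : Set X)) heq
      simp only [hIZ, hsupp] at h1
      exact (Finset.coe_inj.1 h1).symm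
    · rw [← Category.assoc, hθ₁, hcg]
    · rw [Category.assoc, hgd, ← Category.assoc, hθ₂]
  · intro h
    -- the images of the proper subsets
    let ι := {Z' : Finset X // Z' ⊂ Z}
    have hcl : ∀ Z' : Finset X, Z' ⊆ Z → IsClosed (Z' : Set X) := fun Z' hs => by
      rw [← Set.biUnion_of_singleton (Z' : Set X)]
      exact Z'.finite_toSet.isClosed_biUnion fun z hz => hZ z (hs hz)
    let I' : ι → X.IdealSheafData := fun Z' =>
      Scheme.IdealSheafData.vanishingIdeal ⟨(Z'.1 : Set X), hcl Z'.1 Z'.2.subset⟩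
    have hle : ∀ Z' : ι, IZ ≤ I' Z' := fun Z' =>
      Scheme.IdealSheafData.vanishingIdeal_antimono (Finset.coe_subset.2 Z'.2.subset)
    haveI : Finite ι := Finite.of_injective
      (fun Z' : ι => (⟨Z'.1, Finset.mem_powerset.2 Z'.2.subset⟩ : Z.powerset)) fun a b e =>
        Subtype.ext (congrArg (fun z : ↥(Z.powerset) => z.1) e)
    let P : ι → Submodule k (Ext (ClSub.idealMod IZ) M 1) := fun Z' =>
      LinearMap.range ((Ext.mk₀ (HodgeIndex.idealIncl (hle Z'))).precompOfLinear k M (zero_add 1))
    have hP : ∀ Z', P Z' ≠ ⊤ := fun Z' htop => h Z'.1 _ Z'.2 (HodgeIndex.idealIncl (hle Z'))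
      (kernel.lift_ι _ _ _) (LinearMap.range_eq_top.1 htop)
    obtain ⟨x, hx⟩ : ∃ x, ∀ Z', x ∉ P Z' := by
      by_contra hne
      push Not at hne
      obtain ⟨i, hi⟩ := Subspace.exists_eq_top_of_iUnion_eq_univ (p := P)
        (Set.eq_univ_of_forall fun x => Set.mem_iUnion.2 (hne x))
      exact hP i hi
    obtain ⟨F, a, b, w, hex, rfl⟩ := exists_seq_of_class x
    refine ⟨F, a, b, w, hex, by_contra fun hF => ?_⟩
    obtain ⟨J, F', a', b', w', φ, g, hlt, hex', hφ, hag, hgb⟩ :=
      (not_isFinLocFree_iff k hdim M hM IZ hfin F a b w hex).1 hF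
    have hs : (J.support : Set X) ⊆ Z := fun y hy => by
      exact (hsupp ⟨(Z : Set X), hZc⟩).le (Scheme.IdealSheafData.support_antitone hlt.le hy)
    let Z' : Finset X := Z.filter fun z => z ∈ (J.support : Set X)
    have hZ' : (Z' : Set X) = (J.support : Set X) := by
      ext y
      simp only [Z', Finset.coe_filter, Set.mem_setOf_eq]
      exact ⟨And.right, fun hy => ⟨hs hy, hy⟩⟩
    have hJ : J = Scheme.IdealSheafData.vanishingIdeal J.support := by
      let W : TopologicalSpace.Closeds X := ⟨((Z \ Z' : Finset X) : Set X), hcl _ Finset.sdiff_subset⟩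
      refine eq_vanishingIdeal_support (hI := hlt.le) (W := W) ?_ ?_
      · refine SetLike.coe_injective ?_
        simp only [TopologicalSpace.Closeds.coe_inf, TopologicalSpace.Closeds.coe_bot]
        refine Set.eq_empty_iff_forall_notMem.2 fun y hy => ?_
        have h2 : y ∈ ((Z \ Z' : Finset X) : Set X) := hy.2
        rw [Finset.mem_coe, Finset.mem_sdiff] at h2
        exact h2.2 (by rw [← Finset.mem_coe, hZ']; exact hy.1)
      · intro y hy
        by_cases hy' : y ∈ (J.support : Set X)
        · exact Or.inl hy'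
        · refine Or.inr ?_
          show y ∈ ((Z \ Z' : Finset X) : Set X)
          rw [Finset.mem_coe, Finset.mem_sdiff, ← Finset.mem_coe (s := Z'), hZ']
          exact ⟨hy, hy'⟩
    have hss : Z' ⊂ Z := by
      refine (Finset.filter_subset _ _).ssubset_of_ne fun heq => hlt.ne ?_
      rw [hJ, hIZ]
      congr 1
      refine SetLike.coe_injective ?_
      show (Z : Set X) = _
      rw [← hZ']
      exact congrArg _ heq.symm
    refine hx ⟨Z', hss⟩ ?_
    have hJ' : J = I' ⟨Z', hss⟩ := hJ.trans (congrArg _ (SetLike.coe_injective hZ'.symm))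
    clear hJ
    clear_value Z'
    clear hZ'
    subst hJ'
    have hinc : φ = HodgeIndex.idealIncl (hle ⟨Z', hss⟩) := by
      haveI : Mono (ClSub.idealModι (I' ⟨Z', hss⟩)) :=
        inferInstanceAs (Mono (kernel.ι (ClSub.toSubscheme (I' ⟨Z', hss⟩))))
      rw [← cancel_mono (ClSub.idealModι (I' ⟨Z', hss⟩)), hφ]
      exact (kernel.lift_ι _ _ _).symm
    refine ⟨hex'.extClass, ?_⟩
    rw [← hinc]
    show (Ext.mk₀ φ).comp hex'.extClass (zero_add 1) = hex.extClass
    have := ShortComplex.ShortExact.extClass_naturality hex hex'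
      ({ τ₁ := 𝟙 M
         τ₂ := g
         τ₃ := φ
         comm₁₂ := by simp [hag]
         comm₂₃ := hgb } : ShortComplex.mk a b w ⟶ ShortComplex.mk a' b' w')
    rw [Ext.comp_mk₀_id] at this
    exact this.symm

end GrothLib.ExtHull28
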