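import Groth.Agent.Lib.Ref1.Class
import Groth.Agent.Lib.Ref1.DepthTwo
import Groth.Agent.Lib.QCoh.SchSupport
import Groth.Agent.Lib.IdealModSec.Basic
import Groth.Agent.Lib.HodgeIndex.IdealLe
import Groth.Agent.Lib.HodgeIndex.Walls
import Groth.Agent.Lib.VA.VeryAmple
import Groth.Agent.Lib.Hilb20.Reflexive
import Groth.Agent.Lib.K3Ext28.NotFree
import Groth.Agent.Lib.SurfRef9.Basic
import Groth.Agent.Lib.RegPow10.Main
import Groth.Agent.Lib.K0Sub.Killed

/-!
# Extensions of ideals of points by a line bundle and their bidual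
-/

set_option autoImplicit false
set_option maxHeartbeats 1600000
set_option linter.style.haveILetI false
set_option linter.unusedSectionVars false
set_option backward.isDefEq.respectTransparency false

universe u

open CategoryTheory CategoryTheory.Limits AlgebraicGeometry
open GrothLib.Ref1 (sp hη)

noncomputable section

namespace GrothLib.ExtHull28

variable {X : Scheme.{u}}

local instance mono_idealModι (I : X.IdealSheafData) : Mono (ClSub.idealModι I) :=
  inferInstanceAs (Mono (kernel.ι (ClSub.toSubscheme I)))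

/-- Ideals compare as their modules do. -/
theorem le_of_fac {I J : X.IdealSheafData} (φ : ClSub.idealMod I ⟶ ClSub.idealMod J)
    (h : φ ≫ ClSub.idealModι J = ClSub.idealModι I) : I ≤ J := fun U a ha => by
  obtain ⟨m, rfl⟩ := IdealModSec.exists_val_eq I U ha
  have e : IdealModSec.val J U.1 (φ.app U.1 m) = IdealModSec.val I U.1 m := by
    rw [IdealModSec.val, IdealModSec.val, ← h]
    rfl
  exact e ▸ IdealModSec.val_mem J U _

/-- A coherent submodule of the structure sheaf is an ideal module. -/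
theorem exists_iso_idealMod [IsLocallyNoetherian X] {A : X.Modules} (hA : Coh.IsCoh A)
    (f : A ⟶ Coh.structureModule X) [Mono f] :
    ∃ (I : X.IdealSheafData) (e : A ≅ ClSub.idealMod I), e.hom ≫ ClSub.idealModι I = f := by
  let π := cokernel.π f
  have hQ : Coh.IsCoh (cokernel f) := QCoh.isCoh_cokernel f hA (HomSh.isCoh_structureModule X)
  haveI := hQ.1
  haveI := hA.1
  let I := QCoh.annIdeal (cokernel f) hQ.2
  have hS : (ShortComplex.mk f π (cokernel.condition f)).ShortExact :=
    { exact := ShortComplex.exact_cokernel f }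
  haveI : (ShortComplex.mk f π (cokernel.condition f)).X₁.IsQuasicoherent := hA.1
  haveI : (Coh.structureModule X).IsQuasicoherent := (HomSh.isCoh_structureModule X).1
  have hfπ : ∀ (U : X.affineOpens) (a : Γ(A, U.1)), π.app U.1 (f.app U.1 a) = 0 := fun U a => by
    show (f ≫ π).app U.1 a = 0
    rw [cokernel.condition]
    rfl
  have hsurj : ∀ U : X.affineOpens, Function.Surjective (π.app U.1) := fun U =>
    QCoh.app_surjective_of_isAffineOpen hS U.2
  have hf : f ≫ ClSub.toSubscheme I = 0 := by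
    refine VA.hom_ext_affine fun U' a => ?_
    let U : X.affineOpens := ⟨U'.1, U'.2⟩
    let s : Γ(X, U.1) := f.app U.1 a
    have hmem : s ∈ I.ideal U := by
      rw [QCoh.annIdeal_ideal]
      refine Module.mem_annihilator.2 fun q => ?_
      obtain ⟨b, rfl⟩ := hsurj U q
      let c : Γ(X, U.1) := b
      refine (Scheme.Modules.Hom.app_smul π s b).symm.trans ?_
      have hswap : s • b = f.app U.1 (c • a) := by
        rw [Scheme.Modules.Hom.app_smul]
        exact (mul_comm s c : s * c = c * s)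
      exact (congrArg (π.app U.1) hswap).trans (hfπ U _)
    rw [← I.ker_subschemeι_app U] at hmem
    exact hmem
  have hι : ClSub.idealModι I ≫ π = 0 := by
    refine VA.hom_ext_affine fun U' m => ?_
    let U : X.affineOpens := ⟨U'.1, U'.2⟩
    have h1 := IdealModSec.val_mem I U m
    rw [QCoh.annIdeal_ideal] at h1
    show π.app U.1 (IdealModSec.val I U.1 m) = 0
    let v : Γ(X, U.1) := IdealModSec.val I U.1 m
    let o : Γ(Coh.structureModule X, U.1) := (1 : Γ(X, U.1))
    have h2 : v • π.app U.1 o = 0 := Module.mem_annihilator.1 h1 (π.app U.1 o)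
    rw [← Scheme.Modules.Hom.app_smul] at h2
    refine Eq.trans (congrArg (π.app U.1) ?_) h2
    exact (mul_one v).symm
  let p : A ⟶ ClSub.idealMod I := kernel.lift _ f hf
  have hp : p ≫ ClSub.idealModι I = f := kernel.lift_ι _ _ _
  let q : ClSub.idealMod I ⟶ A := hS.exact.lift (ClSub.idealModι I) hι
  have hq : q ≫ f = ClSub.idealModι I := hS.exact.lift_f _ _
  exact ⟨I, ⟨p, q, by rw [← cancel_mono f, Category.assoc, hq, hp, Category.id_comp],
    by rw [← cancel_mono (ClSub.idealModι I), Category.assoc, hp, hq, Category.id_comp]⟩, hp⟩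

variable (k : Type u) [Field k] [X.Over (Spec (CommRingCat.of k))]
  [IsProper (X ↘ Spec (CommRingCat.of k))] [IsIntegral X] [Smooth (X ↘ Spec (CommRingCat.of k))]

include k in
theorem two_le_dim_stalk (hdim : topologicalKrullDim X = 2) {S : Set X} (hS : IsClosed S) (hfin : S.Finite) {x : X}
    (hx : x ∈ S) : (2 : WithBot ℕ∞) ≤ ringKrullDim (X.presheaf.stalk x) := by
  have hdim' : topologicalKrullDim X = ((2 : ℕ) : WithBot ℕ∞) := hdim
  refine Hilb20.dim_stalk_two_le (X ↘ Spec (CommRingCat.of k)) hdim' hS (m := 1) rfl ?_ hx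
  haveI : JacobsonSpace X := LocallyOfFiniteType.jacobsonSpace (X ↘ Spec (CommRingCat.of k))
  intro l hl
  by_contra hlen
  have h1 : 0 < l.length := by omega
  have hlt : l ⟨0, by omega⟩ < l ⟨1, by omega⟩ := l.strictMono (Fin.mk_lt_mk.2 one_pos)
  have hcl : ∀ y ∈ S, IsClosed ({y} : Set X) := fun y hy => by
    have h2 : IsClosed (S ∩ closedPoints X) := by
      rw [show S ∩ closedPoints X = ⋃ z ∈ S ∩ closedPoints X, {z} from (Set.biUnion_of_singleton _).symm]
      exact (hfin.subset Set.inter_subset_left).isClosed_biUnion fun z hz => hz.2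
    have h3 := JacobsonSpace.closure_inter_closedPoints_eq_closure hS.isLocallyClosed
    rw [h2.closure_eq, hS.closure_eq] at h3
    rw [← h3] at hy
    exact hy.2
  have hsp : l ⟨1, by omega⟩ ⤳ l ⟨0, by omega⟩ := hlt.le
  have := (hcl _ (hl _)).closure_eq ▸ (specializes_iff_mem_closure.1 hsp)
  exact hlt.ne (Set.mem_singleton_iff.1 this)

include k in
/-- The main construction. -/
theorem not_isFinLocFree_iff (hdim : topologicalKrullDim X = 2) (M : X.Modules) (hM : PicF.IsInvertible M)
    (IZ : X.IdealSheafData) (hZ : (IZ.support : Set X).Finite)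
    (F : X.Modules) (a : M ⟶ F) (b : F ⟶ ClSub.idealMod IZ) (w : a ≫ b = 0)
    (hex : (ShortComplex.mk a b w).ShortExact) :
    (¬ FlatMod.IsFinLocFree F) ↔
      ∃ (I' : X.IdealSheafData) (F' : X.Modules) (a' : M ⟶ F') (b' : F' ⟶ ClSub.idealMod I') (w' : a' ≫ b' = 0)
        (φ : ClSub.idealMod IZ ⟶ ClSub.idealMod I') (g : F ⟶ F'),
        IZ < I' ∧ (ShortComplex.mk a' b' w').ShortExact ∧ φ ≫ ClSub.idealModι I' = ClSub.idealModι IZ ∧
          a ≫ g = a' ∧ g ≫ b' = b ≫ φ := by
  haveI := Euler.isNoetherian_of_proper (X := X) k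
  have hN := Hilb20.isNormalScheme_of_smooth (X := X) k
  have hclS : IsClosed (IZ.support : Set X) := IZ.support.isClosed
  haveI : Mono a := hex.mono_f
  haveI : Epi b := hex.epi_g
  have hMc := Euler.isCoh_of_isInvertible hM
  haveI := hMc.1
  have hMrel := HomSh.hasRel_of_isCoh hMc
  have hMR := (HomSh.isReflexive_iff hMrel).1 (FacDiv.isRef1_of_isInvertible hM).2.1
  have hspM := Ref1.injective_sp_of_isRef1 hN (FacDiv.isRef1_of_isInvertible hM)
  have hspO : ∀ x, Function.Injective (sp (Coh.structureModule X) (hη x)) :=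
    Ref1.injective_sp_of_isRef1 hN Ref1.isRef1_structureModule
  have hspI : ∀ (J : X.IdealSheafData) x, Function.Injective (sp (ClSub.idealMod J) (hη x)) :=
    fun J x v v' h => QCoh.stalkLin_injective (ClSub.idealModι J) x (hspO x (by
      rw [← Ref1.stalkMapₗ_eq_stalkLin, ← Ref1.stalkMapₗ_sp, ← Ref1.stalkMapₗ_sp, h]))
  have hinj : ∀ {A B : X.Modules} (f : A ⟶ B) [Mono f] (x : X), Function.Injective (RefHull.stalkMapₗ f x) :=
    fun f _ x => fun v v' h => QCoh.stalkLin_injective f x (by rw [← Ref1.stalkMapₗ_eq_stalkLin, h])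
  have hExt : ∀ {J : X.IdealSheafData} {F' : X.Modules} (a' : M ⟶ F') (b' : F' ⟶ ClSub.idealMod J)
      (w' : a' ≫ b' = 0), (ShortComplex.mk a' b' w').ShortExact → ∀ x, Function.Injective (sp F' (hη x)) := by
    intro J F' a' b' w' h' x
    haveI : Mono a' := h'.mono_f
    refine (injective_iff_map_eq_zero _).2 fun v hv => ?_
    have h1 : RefHull.stalkMapₗ b' x v = 0 := hspI J x (by
      rw [← Ref1.stalkMapₗ_sp, hv, map_zero, map_zero])
    obtain ⟨m, rfl⟩ := (SurfRef9.exact_stalk h' x v).1 h1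
    have h2 : sp M (hη x) m = 0 := hinj a' _ (by rw [Ref1.stalkMapₗ_sp, hv, map_zero])
    rw [hspM x (h2.trans (map_zero _).symm), map_zero]
  have hFc : Coh.IsCoh F := K0Sub.isCoh_ext _ hex hMc (RegPow.isCoh_idealMod IZ)
  haveI := hFc.1
  have hFrel := HomSh.hasRel_of_isCoh hFc
  have hspF := hExt a b w hex
  have hιbij : ∀ x, ringKrullDim (X.presheaf.stalk x) ≤ 1 →
      Function.Bijective (RefHull.stalkMapₗ (ClSub.idealModι IZ) x) := fun x hx => by
    rw [show (RefHull.stalkMapₗ (ClSub.idealModι IZ) x : _ → _) = QCoh.stalkLin (ClSub.idealModι IZ) x from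
      funext fun v => by rw [Ref1.stalkMapₗ_eq_stalkLin]]
    exact HodgeIndex.stalk_bijective_idealModι IZ fun h => Ref1.not_le_one_of_two_le
      (two_le_dim_stalk k hdim hclS hZ h) hx
  have hη0 : ringKrullDim (X.presheaf.stalk (genericPoint X)) ≤ 1 := by
    rw [ringKrullDim_stalk_eq_coheight, Ref1.coheight_genericPoint]
    exact zero_le_one
  constructor
  · intro hnot
    let D := RefHull.ddual F
    let β : F ⟶ D := RefHull.bidualMap F
    have hDc : Coh.IsCoh D := HomSh.isCoh_homSh (HomSh.hasRel_dual hFrel) (HomSh.isCoh_structureModule X)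
    haveI := hDc.1
    have hDrel := HomSh.hasRel_of_isCoh hDc
    have hDR : ∀ y : X, Module.IsReflexive (X.presheaf.stalk y) (D.presheaf.stalk y) :=
      (HomSh.isReflexive_iff hDrel).1 (HomSh.isReflexive_homSh (HomSh.hasRel_dual hFrel)
        (HomSh.isCoh_structureModule X) ((HomSh.isReflexive_iff (HomSh.hasRel_of_isCoh (HomSh.isCoh_structureModule X))).2
          fun y => Ref1.isReflexiveAt_unit y))
    have hspD : ∀ y, Function.Injective (sp D (hη y)) := fun y => by
      haveI : IsDomain (X.presheaf.stalk y) := (hN y).1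
      haveI := hDR y
      haveI := Ref1.isTorsionFree_of_isReflexive (X.presheaf.stalk y) (D.presheaf.stalk y)
      exact Ref1.sp_injective _ y
    have hDf : FlatMod.IsFinLocFree D := by
      refine (Ref1.isFinLocFree_iff_free hDrel).2 fun x => ?_
      haveI := HodgeIndex.regular_of_smooth (X := X) k x
      haveI := hDrel.span_stalk x
      haveI := hDR x
      exact Ref1.free_of_isReflexive_dim_two ((Ref1.ringKrullDim_stalk_le_topologicalKrullDim x).trans hdim.le) _
    have hFtf : ∀ x, Module.IsTorsionFree (X.presheaf.stalk x) (F.presheaf.stalk x) := fun x =>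
      Ref1.isTorsionFree_of_sp_injective (hspF x)
    have hβinj : ∀ x, Function.Injective (RefHull.stalkMapₗ β x) := fun x => by
      haveI := hFtf x
      exact Ref1.stalkMap_bidual_injective hFrel x
    haveI : Mono β := (OX.mono_iff β).2 fun x => (ModuleCat.mono_iff_injective _).2 fun v v' h =>
      hβinj x (by rw [Ref1.stalkMapₗ_eq_stalkLin]; exact h)
    have hβbij : ∀ x, ringKrullDim (X.presheaf.stalk x) ≤ 1 → Function.Bijective (RefHull.stalkMapₗ β x) :=
      fun x hx => by
        rw [show (RefHull.stalkMapₗ β x : _ → _) = QCoh.stalkLin β x from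
          funext fun v => by rw [Ref1.stalkMapₗ_eq_stalkLin]]
        refine (HomSh.bijective_bidual_iff hFrel x).2 ?_
        haveI := HodgeIndex.regular_of_smooth (X := X) k x
        haveI := CMFree.isDomain_of_isRegularLocalRing (X.presheaf.stalk x)
        haveI := hFtf x
        haveI := hFrel.span_stalk x
        haveI := Ref1.free_of_isTorsionFree_dim_one hx (F.presheaf.stalk x)
        exact (inferInstance : Module.IsReflexive (X.presheaf.stalk x) (F.presheaf.stalk x))
    let a₁ : M ⟶ D := a ≫ β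
    haveI : Mono a₁ := inferInstanceAs (Mono (a ≫ β))
    let R := cokernel a₁
    have hRc : Coh.IsCoh R := QCoh.isCoh_cokernel a₁ hMc hDc
    haveI := hRc.1
    let π : D ⟶ R := cokernel.π a₁
    have hS₁ : (ShortComplex.mk a₁ π (cokernel.condition a₁)).ShortExact :=
      { exact := ShortComplex.exact_cokernel a₁ }
    let γ : ClSub.idealMod IZ ⟶ R := hex.exact.desc (β ≫ π) (by
      show a ≫ β ≫ π = 0
      rw [← Category.assoc]
      exact cokernel.condition a₁)
    have hγ : b ≫ γ = β ≫ π := hex.exact.g_desc _ _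
    have hγbij : ∀ x, ringKrullDim (X.presheaf.stalk x) ≤ 1 → Function.Bijective (RefHull.stalkMapₗ γ x) := by
      intro x hx
      have hc : ∀ v, RefHull.stalkMapₗ γ x (RefHull.stalkMapₗ b x v) = RefHull.stalkMapₗ π x (RefHull.stalkMapₗ β x v) :=
        fun v => by rw [← LinearMap.comp_apply, ← Ref1.stalkMapₗ_comp, hγ, Ref1.stalkMapₗ_comp]; rfl
      have hbs : Function.Surjective (RefHull.stalkMapₗ b x) := fun v => by
        obtain ⟨u, hu⟩ := QCoh.stalkLin_surjective b x v
        exact ⟨u, by rw [Ref1.stalkMapₗ_eq_stalkLin, hu]⟩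
      refine ⟨(injective_iff_map_eq_zero _).2 fun v hv => ?_, fun r => ?_⟩
      · obtain ⟨u, rfl⟩ := hbs v
        rw [hc] at hv
        obtain ⟨m, hm⟩ := (SurfRef9.exact_stalk hS₁ x _).1 hv
        rw [Ref1.stalkMapₗ_comp] at hm
        rw [← hβinj x hm]
        exact (SurfRef9.exact_stalk hex x).apply_apply_eq_zero m
      · obtain ⟨d, hd⟩ := QCoh.stalkLin_surjective π x r
        obtain ⟨u, rfl⟩ := (hβbij x hx).2 d
        exact ⟨RefHull.stalkMapₗ b x u, by rw [hc, Ref1.stalkMapₗ_eq_stalkLin π, hd]⟩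
    let Eη := LinearEquiv.ofBijective _ (hγbij (genericPoint X) hη0)
    -- specialisations of `R` are injective
    have hR1 : ∀ y, ringKrullDim (X.presheaf.stalk y) ≤ 1 → Function.Injective (sp R (hη y)) := fun y hy v v' h => by
      obtain ⟨c, rfl⟩ := (hγbij y hy).2 v
      obtain ⟨c', rfl⟩ := (hγbij y hy).2 v'
      rw [← Ref1.stalkMapₗ_sp, ← Ref1.stalkMapₗ_sp] at h
      rw [hspI IZ y (Eη.injective h)]
    have hspR : ∀ x, Function.Injective (sp R (hη x)) := fun x => by
      refine (injective_iff_map_eq_zero _).2 fun v hv => ?_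
      obtain ⟨d, hd⟩ := QCoh.stalkLin_surjective π x v
      rw [← Ref1.stalkMapₗ_eq_stalkLin] at hd
      subst hd
      rw [← Ref1.stalkMapₗ_sp] at hv
      obtain ⟨m₀, hm₀⟩ := (SurfRef9.exact_stalk hS₁ _ _).1 hv
      haveI : IsDomain (X.presheaf.stalk x) := (hN x).1
      obtain ⟨m, hm⟩ := Ref1.exists_sp_eq_of_forall_dim_one hN M x (hMR x) m₀ fun y hy hdim' => by
        have h1 : RefHull.stalkMapₗ π y (sp D hy d) = 0 := hR1 y hdim'.le (by
          rw [← Ref1.stalkMapₗ_sp, Ref1.sp_sp, hv, map_zero])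
        obtain ⟨m', hm'⟩ := (SurfRef9.exact_stalk hS₁ y _).1 h1
        refine ⟨m', hinj a₁ _ ?_⟩
        rw [hm₀, Ref1.stalkMapₗ_sp, hm', Ref1.sp_sp]
      have h2 : RefHull.stalkMapₗ a₁ x m = d := hspD x (by rw [← Ref1.stalkMapₗ_sp, hm, hm₀])
      rw [← h2]
      exact (SurfRef9.exact_stalk hS₁ x).apply_apply_eq_zero m
    haveI : (Coh.structureModule X).IsQuasicoherent := (HomSh.isCoh_structureModule X).1
    obtain ⟨ψ, hψ⟩ := Ref1.exists_hom_of_dim_one (G := R) (H := Coh.structureModule X) hN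
      (HomSh.hasRel_of_isCoh (HomSh.isCoh_structureModule X)) Ref1.isRef1_structureModule.2.1
      ((RefHull.stalkMapₗ (ClSub.idealModι IZ) (genericPoint X)).comp Eη.symm.toLinearMap) fun x hx v => by
        obtain ⟨c, rfl⟩ := (hγbij x hx.le).2 v
        refine ⟨RefHull.stalkMapₗ (ClSub.idealModι IZ) x c, ?_⟩
        rw [← Ref1.stalkMapₗ_sp, ← Ref1.stalkMapₗ_sp]
        show _ = RefHull.stalkMapₗ _ _ (Eη.symm (Eη (sp _ (hη x) c)))
        rw [Eη.symm_apply_apply]
    have hγψ : γ ≫ ψ = ClSub.idealModι IZ := Ref1.hom_ext_generic hspO (LinearMap.ext fun v => by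
      rw [Ref1.stalkMapₗ_comp, LinearMap.comp_apply, hψ]
      show RefHull.stalkMapₗ _ _ (Eη.symm (Eη v)) = _
      rw [Eη.symm_apply_apply])
    haveI : Mono ψ := (OX.mono_iff ψ).2 fun x => (ModuleCat.mono_iff_injective _).2 fun v v' h => by
      refine hspR x ?_
      have h' : RefHull.stalkMapₗ ψ x v = RefHull.stalkMapₗ ψ x v' := by
        rw [Ref1.stalkMapₗ_eq_stalkLin]; exact h
      have h'' := congrArg (sp (Coh.structureModule X) (hη x)) h'
      rw [← Ref1.stalkMapₗ_sp, ← Ref1.stalkMapₗ_sp, hψ] at h''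
      exact Eη.symm.injective ((hιbij _ hη0).1 h'')
    obtain ⟨I', e, he⟩ := exists_iso_idealMod hRc ψ
    have hφ : (γ ≫ e.hom) ≫ ClSub.idealModι I' = ClSub.idealModι IZ := by rw [Category.assoc, he, hγψ]
    refine ⟨I', D, a₁, π ≫ e.hom, by rw [cokernel.condition_assoc, zero_comp], γ ≫ e.hom, β, ?_, ?_, hφ, rfl, ?_⟩
    · refine lt_of_le_of_ne (le_of_fac _ hφ) fun heq => hnot ?_
      subst heq
      haveI : IsIso γ := by
        have h1 : γ ≫ e.hom = 𝟙 _ := by rw [← cancel_mono (ClSub.idealModι IZ), hφ, Category.id_comp]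
        haveI : IsIso (γ ≫ e.hom) := by rw [h1]; infer_instance
        exact IsIso.of_isIso_comp_right γ e.hom
      let Φ : ShortComplex.mk a b w ⟶ ShortComplex.mk a₁ π (cokernel.condition a₁) :=
        { τ₁ := 𝟙 M
          τ₂ := β
          τ₃ := γ
          comm₁₂ := by simp [a₁]
          comm₂₃ := hγ.symm }
      haveI : IsIso Φ.τ₁ := inferInstanceAs (IsIso (𝟙 M))
      haveI : IsIso Φ.τ₃ := inferInstanceAs (IsIso γ)
      haveI : IsIso β := ShortComplex.isIso₂_of_shortExact_of_isIso₁₃ Φ hex hS₁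
      exact DCoh.isFinLocFree_of_iso (asIso β).symm hDf
    · exact ShortComplex.shortExact_of_iso (S₁ := ShortComplex.mk a₁ π (cokernel.condition a₁))
        (ShortComplex.isoMk (Iso.refl _) (Iso.refl _) e (by simp) (by simp)) hS₁
    · rw [← Category.assoc, ← hγ, Category.assoc]
  · rintro ⟨I', F', a', b', w', φ, g, hlt, hex', hφ, hag, hgb⟩ hF
    haveI : Mono a' := hex'.mono_f
    haveI : Epi b' := hex'.epi_g
    have hspF' := hExt a' b' w' hex'
    have hFR : RefHull.IsReflexive F := (HomSh.isReflexive_iff hFrel).2 fun x => by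
      haveI := (Ref1.isFinLocFree_iff_free hFrel).1 hF x
      haveI := hFrel.span_stalk x
      exact (inferInstance : Module.IsReflexive (X.presheaf.stalk x) (F.presheaf.stalk x))
    have hφbij : ∀ x, ringKrullDim (X.presheaf.stalk x) ≤ 1 → Function.Bijective (RefHull.stalkMapₗ φ x) := by
      intro x hx
      have hc : ∀ v, RefHull.stalkMapₗ (ClSub.idealModι I') x (RefHull.stalkMapₗ φ x v) =
          RefHull.stalkMapₗ (ClSub.idealModι IZ) x v := fun v => by
        rw [← LinearMap.comp_apply, ← Ref1.stalkMapₗ_comp, hφ]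
      refine ⟨fun v v' h => (hιbij x hx).1 (by rw [← hc, ← hc, h]), fun u => ?_⟩
      obtain ⟨v, hv⟩ := (hιbij x hx).2 (RefHull.stalkMapₗ (ClSub.idealModι I') x u)
      exact ⟨v, hinj (ClSub.idealModι I') x (by rw [hc, hv])⟩
    have hgbij : ∀ x, ringKrullDim (X.presheaf.stalk x) ≤ 1 → Function.Bijective (RefHull.stalkMapₗ g x) := by
      intro x hx
      have hga : ∀ m, RefHull.stalkMapₗ g x (RefHull.stalkMapₗ a x m) = RefHull.stalkMapₗ a' x m := fun m => by
        rw [← LinearMap.comp_apply, ← Ref1.stalkMapₗ_comp, hag]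
      have hgbv : ∀ v, RefHull.stalkMapₗ b' x (RefHull.stalkMapₗ g x v) = RefHull.stalkMapₗ φ x (RefHull.stalkMapₗ b x v) :=
        fun v => by rw [← LinearMap.comp_apply, ← Ref1.stalkMapₗ_comp, hgb, Ref1.stalkMapₗ_comp]; rfl
      refine ⟨(injective_iff_map_eq_zero _).2 fun v hv => ?_, fun u => ?_⟩
      · have h1 := hgbv v
        rw [hv, map_zero] at h1
        obtain ⟨m, rfl⟩ := (SurfRef9.exact_stalk hex x v).1 ((hφbij x hx).1 (h1.symm.trans (map_zero _).symm))
        rw [hga] at hv
        rw [hinj a' x (hv.trans (map_zero _).symm), map_zero]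
      · obtain ⟨i, hi⟩ := (hφbij x hx).2 (RefHull.stalkMapₗ b' x u)
        obtain ⟨v, hv⟩ := QCoh.stalkLin_surjective b x i
        rw [← Ref1.stalkMapₗ_eq_stalkLin] at hv
        obtain ⟨m, hm⟩ := (SurfRef9.exact_stalk hex' x (u - RefHull.stalkMapₗ g x v)).1 (by
          show RefHull.stalkMapₗ b' x _ = 0
          rw [map_sub, hgbv, hv, hi, sub_self])
        exact ⟨v + RefHull.stalkMapₗ a x m, by rw [map_add, hga, hm, add_sub_cancel]⟩
    let Eη := LinearEquiv.ofBijective _ (hgbij (genericPoint X) hη0)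
    obtain ⟨h, hh⟩ := Ref1.exists_hom_of_dim_one (G := F') (H := F) hN hFrel hFR Eη.symm.toLinearMap
      fun x hx v => by
        obtain ⟨c, rfl⟩ := (hgbij x hx.le).2 v
        exact ⟨c, by rw [← Ref1.stalkMapₗ_sp]; exact (Eη.symm_apply_apply _).symm⟩
    have h1 : g ≫ h = 𝟙 F := Ref1.hom_ext_generic hspF (LinearMap.ext fun v => by
      rw [Ref1.stalkMapₗ_comp, LinearMap.comp_apply, hh, Ref1.stalkMapₗ_id]
      exact Eη.symm_apply_apply v)
    have h2 : h ≫ g = 𝟙 F' := Ref1.hom_ext_generic hspF' (LinearMap.ext fun v => by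
      rw [Ref1.stalkMapₗ_comp, LinearMap.comp_apply, hh, Ref1.stalkMapₗ_id]
      exact Eη.apply_symm_apply v)
    haveI : IsIso g := ⟨h, h1, h2⟩
    haveI : Epi φ := by
      haveI : Epi (b ≫ φ) := by rw [← hgb]; exact epi_comp g b'
      exact epi_of_epi b φ
    haveI : Mono φ := by
      haveI : Mono (φ ≫ ClSub.idealModι I') := by rw [hφ]; infer_instance
      exact mono_of_mono φ (ClSub.idealModι I')
    haveI : IsIso φ := isIso_of_mono_of_epi φ
    exact hlt.not_ge (le_of_fac (inv φ) (by rw [← hφ, IsIso.inv_hom_id_assoc]))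

end GrothLib.ExtHull28
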